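import Groth.Prelude.Def_W4c3ghconstell
import Groth.Agent.Lib.Comod.Alg
import Mathlib.LinearAlgebra.Dual.Lemmas
import Mathlib.Topology.Algebra.InfiniteSum.Real
import Mathlib.Analysis.Normed.Group.InfiniteSum
import Mathlib.LinearAlgebra.TensorProduct.RightExactness

/-!
# Isotypic components and weights
-/

set_option autoImplicit false

universe u v w x

open TensorProduct HopfRep W4c3ghconstell Groth.Agent.Lib.Comod.Basic Groth.Agent.Lib.Comod.Alg

namespace Groth.Agent.Lib.ThetaStab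

variable {k : Type u} [Field k] {A : Type v} [AddCommGroup A] [Module k A] [Coalgebra k A]
variable {V : Type w} [AddCommGroup V] [Module k V] [HopfRep.Comod k A V]

theorem mem_range_lTensor_iff (D : Submodule k A) (x : V ⊗[k] A) :
    x ∈ LinearMap.range (LinearMap.lTensor V D.subtype) ↔
      ∀ φ : A →ₗ[k] k, (∀ a ∈ D, φ a = 0) → contract V φ x = 0 := by
  constructor
  · rintro ⟨y, rfl⟩ φ hφ
    rw [contract_lTensor]
    have : φ ∘ₗ D.subtype = 0 := LinearMap.ext fun a => hφ a a.2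
    rw [this]
    simp [contract]
  · intro h
    have hex : Function.Exact (D.subtype.lTensor V) (D.mkQ.lTensor V) :=
      lTensor_exact V (LinearMap.exact_subtype_mkQ D) D.mkQ_surjective
    refine (hex x).1 (ext_contract fun ψ => ?_)
    rw [contract_lTensor, map_zero]
    exact h _ fun a ha => by simp [(Submodule.Quotient.mk_eq_zero D).2 ha]

theorem mem_isoComp_iff (D : Submodule k A) (m : V) :
    m ∈ isoComp V D ↔ ∀ φ : A →ₗ[k] k, (∀ a ∈ D, φ a = 0) → dact V φ m = 0 :=
  mem_range_lTensor_iff D _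

theorem dact_eq_of_mem {D : Submodule k A} {m : V} (hm : m ∈ isoComp V D) {φ ψ : A →ₗ[k] k}
    (h : ∀ a ∈ D, φ a = ψ a) : dact V φ m = dact V ψ m := by
  have h0 := (mem_isoComp_iff D m).1 hm (φ + (-1 : k) • ψ) fun a ha => by simp [h a ha]
  rw [dact_add, dact_smul] at h0
  simpa [sub_eq_zero, ← sub_eq_add_neg] using h0

theorem isSubcomod_isoComp {D : Submodule k A} (hD : IsSubcoalg k A D) :
    IsSubcomod (k := k) (A := A) (isoComp V D) := by
  refine (isSubcomod_iff _).2 fun φ m hm => ?_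
  rw [mem_isoComp_iff]
  intro ψ hψ
  rw [dact_dact]
  refine (mem_isoComp_iff D m).1 hm _ fun a ha => ?_
  obtain ⟨y, hy⟩ := hD a ha
  simp only [conv, LinearMap.comp_apply, ← hy]
  clear hy
  induction y using TensorProduct.induction_on with
  | zero => simp
  | tmul b c => simp [hψ b b.2]
  | add p q hp hq => simp only [map_add, hp, hq, add_zero]

theorem range_map_eq (X : Submodule k A) (z : A ⊗[k] A) :
    z ∈ LinearMap.range (TensorProduct.map X.subtype X.subtype) ↔
      z ∈ LinearMap.range (X.subtype.rTensor A) ∧ z ∈ LinearMap.range (X.subtype.lTensor A) := by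
  constructor
  · rintro ⟨y, rfl⟩
    exact ⟨⟨X.subtype.lTensor X y, by rw [← LinearMap.comp_apply, LinearMap.rTensor_comp_lTensor]⟩,
      ⟨X.subtype.rTensor X y, by rw [← LinearMap.comp_apply, LinearMap.lTensor_comp_rTensor]⟩⟩
  · rintro ⟨⟨y, rfl⟩, h⟩
    have hexA : Function.Exact (X.subtype.lTensor A) (X.mkQ.lTensor A) :=
      lTensor_exact A (LinearMap.exact_subtype_mkQ X) X.mkQ_surjective
    have hexX : Function.Exact (X.subtype.lTensor X) (X.mkQ.lTensor X) :=
      lTensor_exact X (LinearMap.exact_subtype_mkQ X) X.mkQ_surjective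
    have h0 : X.subtype.rTensor (A ⧸ X) (X.mkQ.lTensor X y) = 0 := by
      rw [← LinearMap.comp_apply, LinearMap.rTensor_comp_lTensor, ← LinearMap.lTensor_comp_rTensor,
        LinearMap.comp_apply]
      exact (hexA _).2 h
    obtain ⟨w, hw⟩ := (hexX y).1 (Module.Flat.rTensor_preserves_injective_linearMap X.subtype
      X.injective_subtype (h0.trans (map_zero _).symm))
    exact ⟨w, by rw [← hw, ← LinearMap.comp_apply (LinearMap.rTensor A X.subtype),
      LinearMap.rTensor_comp_lTensor]⟩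

theorem isSubcomod_of_isSubcoalg {D : Submodule k A} (hD : IsSubcoalg k A D) :
    IsSubcomod (k := k) (A := A) (V := A) D := fun d hd => ((range_map_eq D _).1 (hD d hd)).1

theorem le_isoComp_self {D : Submodule k A} (hD : IsSubcoalg k A D) : D ≤ isoComp A D :=
  fun d hd => ((range_map_eq D _).1 (hD d hd)).2

theorem isSubcoalg_inf {D E : Submodule k A} (hD : IsSubcoalg k A D) (hE : IsSubcoalg k A E) :
    IsSubcoalg k A (D ⊓ E) := by
  intro d hd
  refine (range_map_eq _ _).2 ⟨?_, ?_⟩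
  · exact isSubcomod_inf (isSubcomod_of_isSubcoalg hD) (isSubcomod_of_isSubcoalg hE) d hd
  · have h1 := le_isoComp_self hD hd.1
    have h2 := le_isoComp_self hE hd.2
    rw [mem_range_lTensor_iff]
    intro φ hφ
    obtain ⟨Dc, hDc⟩ := Submodule.exists_isCompl D
    let π := Submodule.projectionOnto D Dc hDc
    have e : contract A φ (CoalgebraStruct.comul d) =
        contract A (φ ∘ₗ D.subtype ∘ₗ π) (CoalgebraStruct.comul d) :=
      dact_eq_of_mem (V := A) h1 fun a ha => by
        simp [π, Submodule.projectionOnto_apply_left hDc ⟨a, ha⟩]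
    rw [e]
    have hker : (φ.domRestrict D) ∘ₗ (Submodule.comap D.subtype E).subtype = 0 :=
      LinearMap.ext fun a => hφ _ ⟨a.1.2, a.2⟩
    -- extend `φ|D` to a functional vanishing on `E`
    have hker' : ∀ a : D, (a : A) ∈ E → φ a = 0 := fun a ha => hφ _ ⟨a.2, ha⟩
    obtain ⟨g, hg⟩ : ∃ g : A →ₗ[k] k, (∀ a ∈ D, g a = φ a) ∧ ∀ a ∈ E, g a = 0 := by
      obtain ⟨C, hC⟩ := Submodule.exists_isCompl E
      let q := E.mkQ ∘ₗ D.subtype
      have hq : LinearMap.ker q ≤ LinearMap.ker (φ.domRestrict D) := fun a ha => by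
        simp only [q, LinearMap.mem_ker, LinearMap.comp_apply, Submodule.mkQ_apply,
          Submodule.Quotient.mk_eq_zero, Submodule.subtype_apply] at ha
        exact hker' a ha
      let g₀ : LinearMap.range q →ₗ[k] k :=
        (LinearMap.ker q).liftQ (φ.domRestrict D) hq ∘ₗ q.quotKerEquivRange.symm.toLinearMap
      obtain ⟨g₁, hg₁⟩ := g₀.exists_extend
      refine ⟨g₁ ∘ₗ E.mkQ, fun a ha => ?_, fun a ha => by
        simp [(Submodule.Quotient.mk_eq_zero E).2 ha]⟩
      have h3 := LinearMap.congr_fun hg₁ ⟨q ⟨a, ha⟩, ⟨_, rfl⟩⟩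
      simp only [LinearMap.comp_apply, Submodule.subtype_apply, g₀, LinearEquiv.coe_coe] at h3
      have h4 : q.quotKerEquivRange.symm ⟨q ⟨a, ha⟩, ⟨⟨a, ha⟩, rfl⟩⟩ = (LinearMap.ker q).mkQ ⟨a, ha⟩ :=
        LinearMap.quotKerEquivRange_symm_apply_image q ⟨a, ha⟩ _
      exact h3.trans (congrArg _ h4)
    have e2 : contract A (φ ∘ₗ D.subtype ∘ₗ π) (CoalgebraStruct.comul d) =
        contract A g (CoalgebraStruct.comul d) :=
      dact_eq_of_mem (V := A) h1 fun a ha => by
        simp [π, Submodule.projectionOnto_apply_left hDc ⟨a, ha⟩, hg.1 a ha]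
    rw [e2]
    exact (mem_isoComp_iff E d).1 h2 g hg.2

theorem disjoint_sup {D : SimpSub k A} (s : Finset (SimpSub k A)) (hD : D ∉ s) :
    Disjoint D.1 (s.sup fun E => E.1) := by
  classical
  induction s using Finset.induction generalizing D with
  | empty => simp
  | insert E s hEs ih =>
    rw [Finset.mem_insert, not_or] at hD
    have hDE : D.1 ⊓ E.1 = ⊥ := by
      have h := isSubcoalg_inf D.2.2.1 E.2.2.1
      rcases D.2.2.2 _ inf_le_left h with h' | h'
      · exact h'
      · rcases E.2.2.2 _ inf_le_right h with h'' | h''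
        · exact h''
        · exact absurd (Subtype.ext (h'.symm.trans h'')) hD.1
    rw [Finset.sup_insert, Submodule.disjoint_def]
    intro d hdD hd
    obtain ⟨e, he, c, hc, rfl⟩ := Submodule.mem_sup.1 hd
    obtain ⟨f, hf1, hf2⟩ : ∃ f : A →ₗ[k] k, (∀ a ∈ E.1, f a = CoalgebraStruct.counit a) ∧
        ∀ a ∈ s.sup (fun F : SimpSub k A => F.1), f a = 0 := by
      obtain ⟨C, hC1, hC2⟩ : ∃ C, s.sup (fun F : SimpSub k A => F.1) ≤ C ∧ IsCompl E.1 C :=
        ((ih hEs).symm.exists_isCompl).imp fun C h => ⟨h.1, h.2.symm⟩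
      refine ⟨(CoalgebraStruct.counit : A →ₗ[k] k) ∘ₗ E.1.subtype ∘ₗ Submodule.projectionOnto E.1 C hC2,
        fun a ha => ?_, fun a ha => ?_⟩
      · simp [Submodule.projectionOnto_apply_left hC2 ⟨a, ha⟩]
      · simp [Submodule.projectionOnto_apply_right hC2 ⟨a, hC1 ha⟩]
    have hfe : dact A f e = e := by
      rw [dact_eq_of_mem (le_isoComp_self E.2.2.1 he) (ψ := CoalgebraStruct.counit) hf1, dact_counit_apply]
    have hfc : dact A f c = 0 := by
      have hle : s.sup (fun F : SimpSub k A => F.1) ≤ LinearMap.ker (dact A f) := by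
        refine Finset.sup_le fun F hF a ha => ?_
        exact (mem_isoComp_iff _ _).1 (le_isoComp_self F.2.2.1 ha) f fun b hb =>
          hf2 b (Finset.le_sup (f := fun F : SimpSub k A => F.1) hF hb)
      exact hle hc
    have heD : e ∈ D.1 := by
      have h2 := dact_mem (isSubcomod_of_isSubcoalg D.2.2.1) f hdD
      rwa [map_add, hfe, hfc, add_zero] at h2
    have he0 : e = 0 := (Submodule.mem_bot k).1 (hDE ▸ ⟨heD, he⟩)
    subst he0
    rw [zero_add] at hdD ⊢
    exact Submodule.disjoint_def.1 (ih hD.2) c hdD hc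

/-- A subcomodule is the sum of its isotypic parts, provided the whole is. -/
theorem eq_bot_of_forall_inf_eq_bot (htop : (⨆ D : SimpSub k A, isoComp V D.1) = ⊤)
    {W : Submodule k V} (hW : IsSubcomod (k := k) (A := A) W)
    (h : ∀ D : SimpSub k A, W ⊓ isoComp V D.1 = ⊥) : W = ⊥ := by
  classical
  rw [eq_bot_iff]
  intro n hn
  have hn' : n ∈ ⨆ D : SimpSub k A, isoComp V D.1 := htop ▸ trivial
  obtain ⟨g, hgm, hg⟩ := (Submodule.mem_iSup_iff_exists_finsupp (fun D : SimpSub k A => isoComp V D.1) n).1 hn'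
  have key : ∀ D, g D = 0 := by
    intro D
    by_cases hD : D ∈ g.support
    swap
    · exact Finsupp.notMem_support_iff.1 hD
    obtain ⟨C, hC1, hC2⟩ : ∃ C, (g.support.erase D).sup (fun F : SimpSub k A => F.1) ≤ C ∧ IsCompl D.1 C :=
      (((disjoint_sup _ (Finset.notMem_erase D g.support))).symm.exists_isCompl).imp
        fun C h => ⟨h.1, h.2.symm⟩
    obtain ⟨f, hf1, hf2⟩ : ∃ f : A →ₗ[k] k, (∀ a ∈ D.1, f a = CoalgebraStruct.counit a) ∧ ∀ a ∈ C, f a = 0 :=
      ⟨(CoalgebraStruct.counit : A →ₗ[k] k) ∘ₗ D.1.subtype ∘ₗ Submodule.projectionOnto D.1 C hC2,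
        fun a ha => by simp [Submodule.projectionOnto_apply_left hC2 ⟨a, ha⟩],
        fun a ha => by simp [Submodule.projectionOnto_apply_right hC2 ⟨a, ha⟩]⟩
    have hfD : dact V f (g D) = g D := by
      rw [dact_eq_of_mem (hgm D) (ψ := CoalgebraStruct.counit) hf1, dact_counit_apply]
    have hmem : g D ∈ W := by
      have h2 := dact_mem hW f hn
      rw [← hg, Finsupp.sum, map_sum, Finset.sum_eq_single D, hfD] at h2
      · exact h2
      · intro F hF hne
        exact (mem_isoComp_iff _ _).1 (hgm F) f fun a ha =>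
          hf2 a (hC1 (Finset.le_sup (f := fun F : SimpSub k A => F.1) (Finset.mem_erase.2 ⟨hne, hF⟩) ha))
      · exact fun h => absurd hD h
    exact (Submodule.mem_bot k).1 (h D ▸ ⟨hmem, hgm D⟩)
  have hg0 : g = 0 := Finsupp.ext key
  rw [Submodule.mem_bot, ← hg, hg0, Finsupp.sum_zero_index]

section theta

variable (θ : SimpSub k A → ℚ) {h : SimpSub k A → ℕ}
  (hfin : ∀ D : SimpSub k A, Module.Finite k ↥(isoComp V D.1) ∧ Module.finrank k ↥(isoComp V D.1) = h D)

include hfin

theorem hilbAt_le (N : Submodule k V) (D : SimpSub k A) : hilbAt V N D ≤ h D := by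
  have := (hfin D).1
  rw [← (hfin D).2]
  exact Submodule.finrank_mono inf_le_right

theorem hilbAt_mono {N N' : Submodule k V} (hNN : N ≤ N') (D : SimpSub k A) :
    hilbAt V N D ≤ hilbAt V N' D := by
  have := (hfin D).1
  have : Module.Finite k ↥(N' ⊓ isoComp V D.1) :=
    Submodule.finiteDimensional_of_le (inf_le_right : N' ⊓ isoComp V D.1 ≤ _)
  exact Submodule.finrank_mono (inf_le_inf_right _ hNN)

theorem inf_eq_bot_of_hilbAt {N : Submodule k V} {D : SimpSub k A} (h0 : hilbAt V N D = 0) :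
    N ⊓ isoComp V D.1 = ⊥ := by
  have := (hfin D).1
  have : Module.Finite k ↥(N ⊓ isoComp V D.1) :=
    Submodule.finiteDimensional_of_le (inf_le_right : N ⊓ isoComp V D.1 ≤ _)
  exact Submodule.finrank_eq_zero.1 h0

theorem le_of_hilbAt {N : Submodule k V} {D : SimpSub k A} (h0 : hilbAt V N D = h D) :
    isoComp V D.1 ≤ N := by
  have := (hfin D).1
  exact inf_eq_right.1 (Submodule.eq_of_le_of_finrank_eq inf_le_right (h0.trans (hfin D).2.symm))

variable (hsum : Summable fun D => (θ D : ℝ) * (h D : ℝ))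
include hsum

theorem summable_hilbAt (N : Submodule k V) : Summable fun D => (θ D : ℝ) * (hilbAt V N D : ℝ) := by
  refine Summable.of_norm_bounded hsum.abs fun D => ?_
  rw [Real.norm_eq_abs, abs_mul, abs_mul, Nat.abs_cast, Nat.abs_cast]
  exact mul_le_mul_of_nonneg_left (Nat.cast_le.2 (hilbAt_le hfin N D)) (abs_nonneg _)

theorem theta_le_theta {N N' : Submodule k V}
    (hle : ∀ D, θ D < 0 → hilbAt V N' D ≤ hilbAt V N D)
    (hge : ∀ D, ¬ θ D < 0 → hilbAt V N D ≤ hilbAt V N' D) : theta V θ N ≤ theta V θ N' := by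
  refine (summable_hilbAt θ hfin hsum N).tsum_le_tsum (fun D => ?_) (summable_hilbAt θ hfin hsum N')
  by_cases hD : θ D < 0
  · exact mul_le_mul_of_nonpos_left (Nat.cast_le.2 (hle D hD)) (Rat.cast_nonpos.2 hD.le)
  · exact mul_le_mul_of_nonneg_left (Nat.cast_le.2 (hge D hD)) (Rat.cast_nonneg.2 (not_lt.1 hD))

theorem eq_of_theta_eq {N N' : Submodule k V}
    (hle : ∀ D, θ D < 0 → hilbAt V N' D ≤ hilbAt V N D)
    (hge : ∀ D, ¬ θ D < 0 → hilbAt V N D ≤ hilbAt V N' D) (heq : theta V θ N' ≤ theta V θ N)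
    (D : SimpSub k A) (hD : θ D ≠ 0) : hilbAt V N D = hilbAt V N' D := by
  by_contra hne
  refine lt_irrefl _ (lt_of_le_of_lt heq ?_)
  refine Summable.tsum_lt_tsum (i := D) (fun E => ?_) ?_ (summable_hilbAt θ hfin hsum N)
    (summable_hilbAt θ hfin hsum N')
  · by_cases hE : θ E < 0
    · exact mul_le_mul_of_nonpos_left (Nat.cast_le.2 (hle E hE)) (Rat.cast_nonpos.2 hE.le)
    · exact mul_le_mul_of_nonneg_left (Nat.cast_le.2 (hge E hE)) (Rat.cast_nonneg.2 (not_lt.1 hE))
  · by_cases hE : θ D < 0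
    · exact mul_lt_mul_of_neg_left (Nat.cast_lt.2 (lt_of_le_of_ne (hle D hE) (Ne.symm hne)))
        (Rat.cast_lt_zero.2 hE)
    · exact mul_lt_mul_of_pos_left (Nat.cast_lt.2 (lt_of_le_of_ne (hge D hE) hne))
        (Rat.cast_pos.2 (lt_of_le_of_ne (not_lt.1 hE) (Ne.symm hD)))

end theta

end Groth.Agent.Lib.ThetaStab
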