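import Groth.Agent.Lib.ThetaStab.Basic

/-!
# Weights of generated submodules
-/

set_option autoImplicit false

universe u v w x

open TensorProduct HopfRep W4c3ghconstell Groth.Agent.Lib.Comod.Basic Groth.Agent.Lib.Comod.Alg

namespace Groth.Agent.Lib.ThetaStab

section

variable {k : Type u} [Field k] {A : Type v} [CommRing A] [Bialgebra k A]
variable {R : Type w} [CommRing R] [Algebra k R] [HopfRep.Comod k A R] [GLin.IsCoactAlg k A R]
variable {M : Type x} [AddCommGroup M] [Module k M] [Module R M] [IsScalarTower k R M]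
  [HopfRep.Comod k A M] [TameAct.IsHopfMod k A R M]

omit [HopfRep.Comod k A R] [GLin.IsCoactAlg k A R] [TameAct.IsHopfMod k A R M] in
theorem genIn_le (S : Set (SimpSub k A)) (N : Submodule R M) : genIn k A R M S N ≤ N :=
  Submodule.span_le.2 (Set.iUnion₂_subset fun _ _ _ hm => hm.1)

omit [HopfRep.Comod k A R] [GLin.IsCoactAlg k A R] [TameAct.IsHopfMod k A R M] in
theorem inf_isoComp_le_genIn {S : Set (SimpSub k A)} (N : Submodule R M) {D : SimpSub k A} (hD : D ∈ S) :
    N.restrictScalars k ⊓ isoComp M D.1 ≤ (genIn k A R M S N).restrictScalars k :=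
  fun _ hm => Submodule.subset_span (Set.mem_biUnion hD hm)

omit [HopfRep.Comod k A R] [GLin.IsCoactAlg k A R] [TameAct.IsHopfMod k A R M] in
theorem isoComp_le_genIn_top {S : Set (SimpSub k A)} {D : SimpSub k A} (hD : D ∈ S) :
    isoComp M D.1 ≤ (genIn k A R M S ⊤).restrictScalars k :=
  fun _ hm => Submodule.subset_span (Set.mem_biUnion hD ⟨trivial, hm⟩)

omit [HopfRep.Comod k A R] [GLin.IsCoactAlg k A R] [TameAct.IsHopfMod k A R M] in
theorem hilbAt_genIn {S : Set (SimpSub k A)} (N : Submodule R M) {D : SimpSub k A} (hD : D ∈ S) :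
    hilbAt M ((genIn k A R M S N).restrictScalars k) D = hilbAt M (N.restrictScalars k) D := by
  have h : (genIn k A R M S N).restrictScalars k ⊓ isoComp M D.1 = N.restrictScalars k ⊓ isoComp M D.1 :=
    le_antisymm (inf_le_inf_right _ fun _ hm => genIn_le S N hm)
      (le_inf (inf_isoComp_le_genIn N hD) inf_le_right)
  unfold hilbAt
  rw [h]

omit [HopfRep.Comod k A R] [GLin.IsCoactAlg k A R] [TameAct.IsHopfMod k A R M] in
theorem genIn_genIn (S : Set (SimpSub k A)) (N : Submodule R M) :
    genIn k A R M S (genIn k A R M S N) = genIn k A R M S N :=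
  le_antisymm (genIn_le _ _) (Submodule.span_le.2 (Set.iUnion₂_subset fun _ hD _ hm =>
    Submodule.subset_span (Set.mem_biUnion hD ⟨inf_isoComp_le_genIn N hD hm, hm.2⟩)))

omit [GLin.IsCoactAlg k A R] in
theorem isSubcomod_genIn (S : Set (SimpSub k A)) {N : Submodule R M}
    (hN : IsSubcomod (k := k) (A := A) (N.restrictScalars k)) :
    IsSubcomod (k := k) (A := A) ((genIn k A R M S N).restrictScalars k) := by
  have e : genIn k A R M S N =
      Submodule.span R ((⨆ D : S, N.restrictScalars k ⊓ isoComp M D.1.1 : Submodule k M) : Set M) := by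
    refine le_antisymm (Submodule.span_mono (Set.iUnion₂_subset fun D hD => ?_)) (Submodule.span_le.2 ?_)
    · exact SetLike.coe_subset_coe.2 (le_iSup (fun D : S => N.restrictScalars k ⊓ isoComp M D.1.1) ⟨D, hD⟩)
    · exact fun m hm => (iSup_le fun D : S => inf_isoComp_le_genIn N D.2 : _ ≤ (genIn k A R M S N).restrictScalars k) hm
  rw [e]
  exact isSubcomod_span (isSubcomod_iSup fun D => isSubcomod_inf hN (isSubcomod_isoComp D.1.2.2.1))

end

section weights

variable {k : Type u} [Field k] {A : Type v} [AddCommGroup A] [Module k A] [Coalgebra k A]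
variable {M : Type x} [AddCommGroup M] [Module k M] [HopfRep.Comod k A M]
variable (θ : SimpSub k A → ℚ) {h : SimpSub k A → ℕ}
  (hfin : ∀ D : SimpSub k A, Module.Finite k ↥(isoComp M D.1) ∧ Module.finrank k ↥(isoComp M D.1) = h D)
  (hsum : Summable fun D => (θ D : ℝ) * (h D : ℝ))

theorem hilbAt_bot (D : SimpSub k A) : hilbAt M ⊥ D = 0 := by
  simp [hilbAt]

theorem theta_bot : theta M θ ⊥ = 0 := by
  simp [theta, hilbAt_bot]

include hfin in
theorem hilbAt_top (D : SimpSub k A) : hilbAt M ⊤ D = h D := by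
  rw [← (hfin D).2, hilbAt, top_inf_eq]

include hfin in
theorem theta_top_eq {s : ℝ} (hs : HasSum (fun D => (θ D : ℝ) * (h D : ℝ)) s) : theta M θ ⊤ = s := by
  simp only [theta, hilbAt_top hfin]
  exact hs.tsum_eq

include hfin hsum in
/-- A nonzero subcomodule without part in negative weight has positive weight. -/
theorem theta_pos (htop : (⨆ D : SimpSub k A, isoComp M D.1) = ⊤) (hθ : ∀ D, h D ≠ 0 → θ D ≠ 0)
    {W : Submodule k M} (hW : IsSubcomod (k := k) (A := A) W) (hne : W ≠ ⊥)
    (h0 : ∀ D, θ D < 0 → hilbAt M W D = 0) : 0 < theta M θ W := by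
  by_contra hle
  have hle' : theta M θ W ≤ theta M θ ⊥ := by rw [theta_bot]; exact not_lt.1 hle
  refine hne (eq_bot_of_forall_inf_eq_bot htop hW fun D => inf_eq_bot_of_hilbAt hfin ?_)
  by_cases hD : θ D = 0
  · refine Nat.le_zero.1 ((hilbAt_le hfin W D).trans (le_of_eq ?_))
    by_contra hh
    exact hθ D hh hD
  · rw [← eq_of_theta_eq θ hfin hsum (fun E hE => (h0 E hE).trans_le (Nat.zero_le _))
      (fun E _ => hilbAt_mono hfin bot_le E) hle' D hD, hilbAt_bot]

end weights

end Groth.Agent.Lib.ThetaStab
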